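import Groth.Prelude.Def_QuadGrp2
import Mathlib.AlgebraicGeometry.Morphisms.Smooth
import Mathlib.AlgebraicGeometry.Morphisms.Affine
import Mathlib.RingTheory.Smooth.Basic
import Mathlib.RingTheory.RingHom.Smooth
import Mathlib.RingTheory.FinitePresentation
import Mathlib.Algebra.MvPolynomial.CommRing

/-!
# Schemes over `Spec R` pinned by an affine functor of points cut out by finitely many equations
-/

universe u

namespace Groth.Agent.H21Rep

open CategoryTheory Limits AlgebraicGeometry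

set_option linter.style.haveILetI false

section Points

variable {S : Scheme.{u}} {X Y : Over S}

lemma comp_injective (f : X ⟶ Y)
    (h : ∀ (T : Over S), IsAffine T.left → Function.Bijective fun y : T ⟶ X => y ≫ f) (T : Over S) :
    Function.Injective fun y : T ⟶ X => y ≫ f := fun y y' hy => by
  refine Over.OverMorphism.ext (T.left.affineCover.hom_ext _ _ fun i => ?_)
  let g : Over.mk (T.left.affineCover.f i ≫ T.hom) ⟶ T := Over.homMk (T.left.affineCover.f i)
  haveI : IsAffine (Over.mk (T.left.affineCover.f i ≫ T.hom)).left :=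
    inferInstanceAs (IsAffine (T.left.affineCover.X i))
  have := (h (Over.mk (T.left.affineCover.f i ≫ T.hom)) inferInstance).1 (a₁ := g ≫ y) (a₂ := g ≫ y')
    (by
      have hy' : y ≫ f = y' ≫ f := hy
      simp only [Category.assoc, hy'])
  exact congrArg (fun m => m.left) this

/-- A morphism over `S` bijective on affine points is an isomorphism. -/
theorem isIso_of_bijective_points (f : X ⟶ Y)
    (h : ∀ (T : Over S), IsAffine T.left → Function.Bijective fun y : T ⟶ X => y ≫ f) : IsIso f := by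
  let 𝒰 := Y.left.affineCover
  let U : 𝒰.I₀ → Over S := fun i => Over.mk (𝒰.f i ≫ Y.hom)
  have hU : ∀ i, IsAffine (U i).left := fun i => inferInstanceAs (IsAffine (Y.left.affineCover.X i))
  choose a ha using fun i => (h (U i) (hU i)).2 (Over.homMk (𝒰.f i) : U i ⟶ Y)
  have hcompat : ∀ i j, pullback.fst (𝒰.f i) (𝒰.f j) ≫ (a i).left =
      pullback.snd _ _ ≫ (a j).left := fun i j => by
    let P : Over S := Over.mk (pullback.fst (𝒰.f i) (𝒰.f j) ≫ 𝒰.f i ≫ Y.hom)
    let p₁ : P ⟶ U i := Over.homMk (pullback.fst (𝒰.f i) (𝒰.f j))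
    let p₂ : P ⟶ U j := Over.homMk (pullback.snd (𝒰.f i) (𝒰.f j)) (by
      simp [P, U, pullback.condition_assoc])
    have := comp_injective f h P (a₁ := p₁ ≫ a i) (a₂ := p₂ ≫ a j) (by
      have hai : a i ≫ f = Over.homMk (𝒰.f i) := ha i
      have haj : a j ≫ f = Over.homMk (𝒰.f j) := ha j
      simp only [Category.assoc, hai, haj]
      exact Over.OverMorphism.ext pullback.condition)
    exact congrArg (fun m => m.left) this
  let g : Y ⟶ X := Over.homMk (𝒰.glueMorphisms (fun i => (a i).left) hcompat) (𝒰.hom_ext _ _ fun i => by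
    rw [← Category.assoc, Scheme.Cover.ι_glueMorphisms]
    exact Over.w (a i))
  have hg : g ≫ f = 𝟙 Y := Over.OverMorphism.ext (𝒰.hom_ext _ _ fun i => by
    change 𝒰.f i ≫ 𝒰.glueMorphisms _ hcompat ≫ f.left = 𝒰.f i ≫ 𝟙 _
    rw [← Category.assoc, Scheme.Cover.ι_glueMorphisms, Category.comp_id]
    exact congrArg (fun m => m.left) (ha i))
  exact ⟨g, comp_injective f h X (by simp only [Category.assoc, hg, Category.id_comp, Category.comp_id]), hg⟩

end Points

variable {R : Type u} [CommRing R]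

section SpecOver

variable {A B : Type u} [CommRing A] [Algebra R A] [CommRing B] [Algebra R B]

/-- a morphism `Spec A ⟶ Spec B` over `R` comes from an algebra map -/
lemma exists_specOverMap_eq (y : QuadGrp.specOver R A ⟶ QuadGrp.specOver R B) :
    ∃ φ : B →ₐ[R] A, QuadGrp.specOverMap R φ = y := by
  let yl : Spec (CommRingCat.of A) ⟶ Spec (CommRingCat.of B) := y.left
  have h : CommRingCat.ofHom (algebraMap R B) ≫ Spec.preimage yl = CommRingCat.ofHom (algebraMap R A) := by
    refine Spec.map_injective ?_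
    rw [Spec.map_comp, Spec.map_preimage]
    exact Over.w y
  refine ⟨{ (Spec.preimage yl).hom with commutes' := fun r => ?_ }, Over.OverMorphism.ext ?_⟩
  · exact congrArg (fun m : CommRingCat.of R ⟶ CommRingCat.of A => m.hom r) h
  · change Spec.map (CommRingCat.ofHom _) = y.left
    exact Spec.map_preimage yl

lemma specOverMap_injective {φ ψ : B →ₐ[R] A} (h : QuadGrp.specOverMap R φ = QuadGrp.specOverMap R ψ) :
    φ = ψ := by
  have h2 : Spec.map (CommRingCat.ofHom φ.toRingHom) = Spec.map (CommRingCat.ofHom ψ.toRingHom) :=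
    congrArg (fun m => m.left) h
  exact AlgHom.ext fun b =>
    congrArg (fun m : CommRingCat.of B ⟶ CommRingCat.of A => m.hom b) (Spec.map_injective h2)

lemma exists_iso_specOver (T : Over (Spec (CommRingCat.of R))) [IsAffine T.left] :
    ∃ (A : Type u) (_ : CommRing A) (_ : Algebra R A), Nonempty (T ≅ QuadGrp.specOver R A) := by
  let φ : CommRingCat.of R ⟶ Γ(T.left, ⊤) := Spec.preimage (T.left.isoSpec.inv ≫ T.hom)
  refine ⟨Γ(T.left, ⊤), inferInstance, φ.hom.toAlgebra, ⟨Over.isoMk T.left.isoSpec ?_⟩⟩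
  change T.left.isoSpec.hom ≫ Spec.map φ = T.hom
  rw [Spec.map_preimage, Iso.hom_inv_id_assoc]

end SpecOver

/-- finitely many polynomial equations, given as a natural family of functions -/
structure Eqs (R : Type u) [CommRing R] (ι κ : Type) where
  /-- the equations -/
  F : ∀ (A : Type u) [CommRing A] [Algebra R A], (ι → A) → κ → A
  /-- naturality -/
  map : ∀ (A B : Type u) [CommRing A] [Algebra R A] [CommRing B] [Algebra R B] (φ : A →ₐ[R] B)
    (x : ι → A) (k : κ), φ (F A x k) = F B (φ ∘ x) k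

variable {ι κ : Type} (E : Eqs R ι κ)

/-- the equations on the universal point -/
noncomputable def Eqs.ideal : Ideal (MvPolynomial ι R) :=
  Ideal.span (Set.range (E.F (MvPolynomial ι R) MvPolynomial.X))

/-- the coordinate ring -/
abbrev Eqs.H : Type u := MvPolynomial ι R ⧸ E.ideal

/-- the universal solution -/
noncomputable def Eqs.univ : ι → E.H := fun i => Ideal.Quotient.mk E.ideal (MvPolynomial.X i)

lemma Eqs.univ_spec (k : κ) : E.F E.H E.univ k = 0 := by
  have h := E.map (MvPolynomial ι R) E.H (Ideal.Quotient.mkₐ R E.ideal) MvPolynomial.X k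
  rw [Ideal.Quotient.mkₐ_eq_mk, show Ideal.Quotient.mk E.ideal (E.F (MvPolynomial ι R) MvPolynomial.X k) = 0 from Ideal.Quotient.eq_zero_iff_mem.mpr (Ideal.subset_span (Set.mem_range_self k))] at h
  exact h.symm

lemma Eqs.sol_map {A B : Type u} [CommRing A] [Algebra R A] [CommRing B] [Algebra R B] (φ : A →ₐ[R] B)
    {x : ι → A} (hx : ∀ k, E.F A x k = 0) (k : κ) : E.F B (φ ∘ x) k = 0 := by
  rw [← E.map, hx, map_zero]

lemma Eqs.exists_hom {A : Type u} [CommRing A] [Algebra R A] (x : ι → A) (hx : ∀ k, E.F A x k = 0) :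
    ∃ φ : E.H →ₐ[R] A, φ ∘ E.univ = x := by
  have hle : E.ideal ≤ RingHom.ker (MvPolynomial.aeval (R := R) x).toRingHom := by
    refine Ideal.span_le.mpr ?_
    rintro _ ⟨k, rfl⟩
    change MvPolynomial.aeval x (E.F _ MvPolynomial.X k) = 0
    rw [E.map]
    convert hx k
    funext i
    exact MvPolynomial.aeval_X x i
  exact ⟨Ideal.Quotient.liftₐ E.ideal (MvPolynomial.aeval x) fun a ha => RingHom.mem_ker.mp (hle ha),
    funext fun i => by
      rw [Function.comp_apply, Eqs.univ, Ideal.Quotient.liftₐ_apply]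
      exact (Ideal.Quotient.lift_mk _ _ _).trans (MvPolynomial.aeval_X x i)⟩

lemma Eqs.hom_ext {A : Type u} [CommRing A] [Algebra R A] {φ ψ : E.H →ₐ[R] A}
    (h : φ ∘ E.univ = ψ ∘ E.univ) : φ = ψ :=
  Ideal.Quotient.algHom_ext R (MvPolynomial.algHom_ext fun i => congrFun h i)

/-- formal smoothness: solutions lift along square-zero ideals -/
def Eqs.Lifts : Prop :=
  ∀ (A : Type u) [CommRing A] [Algebra R A] (I : Ideal A), I ^ 2 = ⊥ →
    ∀ x : ι → A ⧸ I, (∀ k, E.F (A ⧸ I) x k = 0) →
      ∃ y : ι → A, (∀ k, E.F A y k = 0) ∧ ∀ i, Ideal.Quotient.mk I (y i) = x i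

lemma Eqs.formallySmooth_iff : Algebra.FormallySmooth R E.H ↔ E.Lifts := by
  refine ⟨fun h A _ _ I hI x hx => ?_, fun h => Algebra.FormallySmooth.of_comp_surjective ?_⟩
  · obtain ⟨φ, hφ⟩ := E.exists_hom x hx
    obtain ⟨ψ, hψ⟩ := Algebra.FormallySmooth.comp_surjective R E.H I hI φ
    refine ⟨ψ ∘ E.univ, E.sol_map ψ E.univ_spec, fun i => ?_⟩
    rw [← hφ, ← hψ]
    rfl
  · intro B _ _ I hI φ
    obtain ⟨y, hy, hyx⟩ := h B I hI (φ ∘ E.univ) (E.sol_map φ E.univ_spec)
    obtain ⟨ψ, hψ⟩ := E.exists_hom y hy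
    refine ⟨ψ, E.hom_ext (funext fun i => ?_)⟩
    change Ideal.Quotient.mk I (ψ (E.univ i)) = φ (E.univ i)
    rw [show ψ (E.univ i) = y i from congrFun hψ i, hyx]
    rfl

lemma Eqs.finitePresentation [Finite ι] [Finite κ] : Algebra.FinitePresentation R E.H :=
  Algebra.FinitePresentation.quotient (Submodule.fg_span (Set.finite_range _))

variable (G : Over (Spec (CommRingCat.of R)))
  (e : ∀ (A : Type u) [CommRing A] [Algebra R A],
    (QuadGrp.specOver R A ⟶ G) ≃ {x : ι → A // ∀ k, E.F A x k = 0})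
  (nat : ∀ (A B : Type u) [CommRing A] [Algebra R A] [CommRing B] [Algebra R B] (φ : A →ₐ[R] B)
    (y : QuadGrp.specOver R A ⟶ G), (e B (QuadGrp.specOverMap R φ ≫ y)).1 = φ ∘ (e A y).1)

include nat in
/-- a scheme whose points are the solutions is the affine scheme of the coordinate ring -/
theorem exists_iso : ∃ ξ : QuadGrp.specOver R E.H ⟶ G, IsIso ξ := by
  let ξ := (e E.H).symm ⟨E.univ, E.univ_spec⟩
  have hξ : ∀ (A : Type u) [CommRing A] [Algebra R A] (φ : E.H →ₐ[R] A),
      (e A (QuadGrp.specOverMap R φ ≫ ξ)).1 = φ ∘ E.univ := fun A _ _ φ => by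
    rw [nat, Equiv.apply_symm_apply]
  refine ⟨ξ, isIso_of_bijective_points ξ fun T hT => ?_⟩
  obtain ⟨A, _, _, ⟨i⟩⟩ := exists_iso_specOver T
  refine ⟨fun y y' h => ?_, fun g => ?_⟩
  · obtain ⟨φ, hφ⟩ := exists_specOverMap_eq (i.inv ≫ y)
    obtain ⟨ψ, hψ⟩ := exists_specOverMap_eq (i.inv ≫ y')
    have h2 : QuadGrp.specOverMap R φ ≫ ξ = QuadGrp.specOverMap R ψ ≫ ξ := by
      rw [hφ, hψ, Category.assoc, Category.assoc]
      exact congrArg (i.inv ≫ ·) h
    have h3 : φ = ψ := E.hom_ext (by rw [← hξ, ← hξ, h2])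
    rw [← cancel_epi i.inv, ← hφ, ← hψ, h3]
  · obtain ⟨φ, hφ⟩ := E.exists_hom (e A (i.inv ≫ g)).1 (e A (i.inv ≫ g)).2
    refine ⟨i.hom ≫ QuadGrp.specOverMap R φ, ?_⟩
    change (i.hom ≫ QuadGrp.specOverMap R φ) ≫ ξ = g
    have h2 : QuadGrp.specOverMap R φ ≫ ξ = i.inv ≫ g := (e A).injective (Subtype.ext (by rw [hξ, hφ]))
    rw [Category.assoc, h2, Iso.hom_inv_id_assoc]

include nat in
/-- smoothness of the scheme is the lifting property -/
theorem smooth_iff [Finite ι] [Finite κ] : AlgebraicGeometry.Smooth G.hom ↔ E.Lifts := by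
  obtain ⟨ξ, hξ⟩ := exists_iso E G e nat
  haveI : IsIso ξ.left := inferInstanceAs (IsIso ((Over.forget _).map ξ))
  have hiff : AlgebraicGeometry.Smooth G.hom ↔ AlgebraicGeometry.Smooth (ξ.left ≫ G.hom) := by
    refine ⟨fun _ => inferInstance, fun _ => ?_⟩
    rw [← IsIso.inv_hom_id_assoc ξ.left G.hom]
    infer_instance
  rw [hiff, Over.w ξ]
  change AlgebraicGeometry.Smooth (Spec.map (CommRingCat.ofHom (algebraMap R E.H))) ↔ _
  rw [HasRingHomProperty.Spec_iff (P := @AlgebraicGeometry.Smooth), CommRingCat.hom_ofHom,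
    RingHom.smooth_algebraMap]
  exact ⟨fun h => E.formallySmooth_iff.mp h.formallySmooth,
    fun h => ⟨E.formallySmooth_iff.mpr h, E.finitePresentation⟩⟩

include nat in
theorem isAffineHom : IsAffineHom G.hom := by
  obtain ⟨ξ, hξ⟩ := exists_iso E G e nat
  haveI : IsIso ξ.left := inferInstanceAs (IsIso ((Over.forget _).map ξ))
  rw [← IsIso.inv_hom_id_assoc ξ.left G.hom, Over.w ξ]
  haveI : IsAffineHom (QuadGrp.specOver R E.H).hom :=
    inferInstanceAs (IsAffineHom (Spec.map (CommRingCat.ofHom (algebraMap R E.H))))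
  infer_instance

end Groth.Agent.H21Rep
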