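import Groth.Agent.H21Rep.Basic
import Mathlib.RingTheory.Smooth.StandardSmoothOfFree
import Mathlib.RingTheory.Smooth.StandardSmoothCotangent
import Mathlib.RingTheory.RingHom.StandardSmooth
import Mathlib.Algebra.TrivSqZeroExt.Basic
import Mathlib.RingTheory.Spectrum.Prime.Basic
import Mathlib.RingTheory.LocalRing.ResidueField.Ideal

/-!
# Relative dimension of solution schemes by tangent spaces
-/

universe u

namespace Groth.Agent.H21Rep

open TrivSqZeroExt

set_option linter.style.haveILetI false
set_option synthInstance.maxHeartbeats 100000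

variable {R : Type u} [CommRing R] {ι κ : Type} [Finite ι] [Finite κ] (E : Eqs R ι κ)

/-- the first order solutions at `x` -/
def Eqs.IsTangent {k : Type u} [CommRing k] [Algebra R k] (x δ : ι → k) : Prop :=
  ∀ a, E.F (TrivSqZeroExt k k) (fun i => inl (x i) + inr (δ i)) a = 0

omit [Finite ι] [Finite κ] in
theorem rank_kaehler_of_tangent {k : Type u} [Field k] [Algebra R k] {n : ℕ}
    (S : Type u) [CommRing S] [Nontrivial S] [Algebra R S] [Algebra E.H S] [IsScalarTower R E.H S] (f : E.H)
    [IsLocalization.Away f S] [Algebra.IsStandardSmooth R S]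
    [Algebra S k] [IsScalarTower R S k]
    (T : Submodule k (ι → k)) (hT : Module.finrank k T = n)
    (hTtan : ∀ δ, δ ∈ T ↔ E.IsTangent (fun i => algebraMap S k (algebraMap E.H S (E.univ i))) δ) :
    Module.rank S Ω[S⁄R] = n := by
  classical
  let b := Module.Free.chooseBasis S Ω[S⁄R]
  let I := Module.Free.ChooseBasisIndex S Ω[S⁄R]
  let π : S →ₐ[R] k := IsScalarTower.toAlgHom R S k
  let ℓ : E.H →ₐ[R] S := IsScalarTower.toAlgHom R E.H S
  -- derivations from coordinates
  let Θ : (I → k) →ₗ[k] (ι → k) :=
    LinearMap.pi fun i => (LinearMap.id (R := k) (M := k)) ∘ₗ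
      { toFun := fun c => b.constr k c (KaehlerDifferential.D R S (ℓ (E.univ i)))
        map_add' := fun c c' => by rw [map_add]; rfl
        map_smul' := fun a c => by rw [map_smul]; rfl }
  have hΘ : ∀ c i, Θ c i = b.constr k c (KaehlerDifferential.D R S (ℓ (E.univ i))) := fun c i => rfl
  have hlift : ∀ d : Derivation R S k, ∃ ψ : S →ₐ[R] TrivSqZeroExt k k, ∀ s, ψ s = inl (π s) + inr (d s) :=
    fun d => ⟨
      { toFun := fun s => inl (π s) + inr (d s)
        map_one' := by simp
        map_mul' := fun a c => TrivSqZeroExt.ext (by simp) (by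
          simp [Algebra.smul_def, π]; ring)
        map_zero' := by simp
        map_add' := fun a c => by simp [inl_add, inr_add]; abel
        commutes' := fun r => TrivSqZeroExt.ext (by
          simp [π, TrivSqZeroExt.algebraMap_eq_inl', ← IsScalarTower.algebraMap_apply]) (by
          simp [TrivSqZeroExt.algebraMap_eq_inl']) }, fun s => rfl⟩
  have hinj : Function.Injective Θ := by
    refine (injective_iff_map_eq_zero Θ).mpr fun c hc => ?_
    let d : Derivation R S k := KaehlerDifferential.linearMapEquivDerivation R S (b.constr k c)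
    obtain ⟨ψ, hψ⟩ := hlift d
    obtain ⟨ψ₀, hψ₀⟩ := hlift 0
    have h1 : ψ.comp ℓ = ψ₀.comp ℓ := E.hom_ext (funext fun i => by
      simp only [Function.comp_apply, AlgHom.comp_apply, hψ, hψ₀]
      congr 2
      exact congrFun hc i)
    have h2 : ψ.toRingHom = ψ₀.toRingHom := IsLocalization.ringHom_ext (Submonoid.powers f)
      (RingHom.ext fun a => AlgHom.congr_fun h1 a)
    have h3 : b.constr k c = 0 := by
      refine (KaehlerDifferential.linearMapEquivDerivation R S).injective (Derivation.ext fun s => ?_)
      have := congrArg TrivSqZeroExt.snd (RingHom.congr_fun h2 s)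
      change (ψ s).snd = (ψ₀ s).snd at this
      rw [hψ, hψ₀] at this
      simpa [d] using this
    exact (b.constr k).injective (h3.trans (map_zero _).symm)
  have hrange : LinearMap.range Θ = T := by
    refine le_antisymm ?_ fun δ hδ => ?_
    · rintro _ ⟨c, rfl⟩
      rw [hTtan]
      obtain ⟨ψ, hψ⟩ := hlift (KaehlerDifferential.linearMapEquivDerivation R S (b.constr k c))
      intro a
      have := E.sol_map (ψ.comp ℓ) E.univ_spec a
      convert this using 2
      funext i
      simp only [Function.comp_apply, AlgHom.comp_apply, hψ]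
      rfl
    · obtain ⟨φ, hφ⟩ := E.exists_hom _ ((hTtan δ).mp hδ)
      have hfst : ∀ a, (φ a).fst = π (ℓ a) := fun a => by
        have : (TrivSqZeroExt.fstHom R k k).comp φ = π.comp ℓ := E.hom_ext (funext fun i => by
          simp only [Function.comp_apply, AlgHom.comp_apply]
          rw [show φ (E.univ i) = _ from congrFun hφ i]
          simp [π, ℓ])
        exact AlgHom.congr_fun this a
      have hu : IsUnit (φ.toRingHom f) := by
        rw [TrivSqZeroExt.isUnit_iff_isUnit_fst]
        change IsUnit (φ f).fst
        rw [hfst]
        exact (IsLocalization.Away.algebraMap_isUnit f).map π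
      let ψ : S →+* TrivSqZeroExt k k := IsLocalization.Away.lift f hu
      have hψℓ : ∀ a, ψ (ℓ a) = φ a := fun a => IsLocalization.Away.lift_eq f hu a
      have hψfst : ∀ s, (ψ s).fst = π s := by
        have : (TrivSqZeroExt.fstHom R k k).toRingHom.comp ψ = π.toRingHom :=
          IsLocalization.ringHom_ext (Submonoid.powers f) (RingHom.ext fun a =>
            (congrArg TrivSqZeroExt.fst (hψℓ a)).trans (hfst a))
        exact fun s => RingHom.congr_fun this s
      have hψR : ∀ r, ψ (algebraMap R S r) = algebraMap R _ r := fun r => by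
        rw [IsScalarTower.algebraMap_apply R E.H S]
        exact (hψℓ _).trans (φ.commutes r)
      let d : Derivation R S k :=
        Derivation.mk'
          { toFun := fun s => (ψ s).snd
            map_add' := fun a c => by simp
            map_smul' := fun r a => by
              rw [RingHom.id_apply, Algebra.smul_def r a, map_mul, hψR, TrivSqZeroExt.algebraMap_eq_inl',
                TrivSqZeroExt.snd_mul]
              simp [Algebra.smul_def] }
          fun a c => by
            simp only [LinearMap.coe_mk, AddHom.coe_mk, map_mul, TrivSqZeroExt.snd_mul, hψfst]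
            simp [Algebra.smul_def, π]; ring
      refine ⟨fun j => d.liftKaehlerDifferential (b j), funext fun i => ?_⟩
      rw [hΘ, b.constr_self, Derivation.liftKaehlerDifferential_comp_D]
      change (ψ (ℓ (E.univ i))).snd = δ i
      rw [hψℓ, show φ (E.univ i) = _ from congrFun hφ i]
      simp
  haveI : Module.Finite S Ω[S⁄R] := inferInstance
  have hcard : Fintype.card I = n := by
    rw [← Module.finrank_fintype_fun_eq_card k, ← hT, ← hrange, LinearMap.finrank_range_of_inj hinj]
  rw [rank_eq_card_basis b, hcard]

/-- a formally smooth solution scheme with `n`-dimensional tangent spaces is smooth of relative dimension `n` -/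
theorem locally_standardSmooth (hL : E.Lifts) (n : ℕ)
    (hT : ∀ (k : Type u) [Field k] [Algebra R k] (x : ι → k), (∀ a, E.F k x a = 0) →
      ∃ T : Submodule k (ι → k), Module.finrank k T = n ∧ ∀ δ, δ ∈ T ↔ E.IsTangent x δ) :
    RingHom.Locally (RingHom.IsStandardSmoothOfRelativeDimension n) (algebraMap R E.H) := by
  haveI := E.finitePresentation
  haveI : Algebra.FormallySmooth R E.H := E.formallySmooth_iff.mpr hL
  haveI : Algebra.Smooth R E.H := ⟨inferInstance, inferInstance⟩
  refine ⟨{f | Algebra.IsStandardSmoothOfRelativeDimension n R (Localization.Away f)}, ?_, fun f hf => ?_⟩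
  · by_contra htop
    obtain ⟨p, hp, hle⟩ := Ideal.exists_le_maximal _ htop
    haveI := hp.isPrime
    obtain ⟨f, hf, hstd⟩ := Algebra.IsSmoothAt.exists_notMem_isStandardSmooth R p
    refine hf (hle (Ideal.subset_span ?_))
    haveI : Nontrivial (Localization.Away f) := by
      rw [nontrivial_iff]
      refine ⟨0, 1, fun h => hf ?_⟩
      obtain ⟨⟨c, m, rfl⟩, hm⟩ :=
        (IsLocalization.map_eq_zero_iff (Submonoid.powers f) (Localization.Away f) 1).mp (by rw [map_one, ← h])
      rw [mul_one] at hm
      exact hp.isPrime.mem_of_pow_mem m (by rw [show f ^ m = 0 from hm]; exact p.zero_mem)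
    have hu : IsUnit (algebraMap E.H p.ResidueField f) :=
      isUnit_iff_ne_zero.mpr fun h => hf (Ideal.algebraMap_residueField_eq_zero.mp h)
    letI : Algebra (Localization.Away f) p.ResidueField := (IsLocalization.Away.lift f hu).toAlgebra
    haveI : IsScalarTower R (Localization.Away f) p.ResidueField := IsScalarTower.of_algebraMap_eq fun r => by
      rw [IsScalarTower.algebraMap_apply R E.H (Localization.Away f), RingHom.algebraMap_toAlgebra,
        IsLocalization.Away.lift_eq, ← IsScalarTower.algebraMap_apply]
    obtain ⟨T, hTn, hTt⟩ := hT p.ResidueField (fun i => algebraMap E.H p.ResidueField (E.univ i))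
      (E.sol_map (IsScalarTower.toAlgHom R E.H p.ResidueField) E.univ_spec)
    refine (Algebra.IsStandardSmoothOfRelativeDimension.iff_of_isStandardSmooth n).mpr
      (rank_kaehler_of_tangent E (Localization.Away f) f T hTn fun δ => ?_)
    rw [hTt]
    refine iff_of_eq (congrArg (E.IsTangent · δ) (funext fun i => ?_))
    rw [RingHom.algebraMap_toAlgebra, IsLocalization.Away.lift_eq]
  · beta_reduce
    rw [← IsScalarTower.algebraMap_eq, RingHom.isStandardSmoothOfRelativeDimension_algebraMap]
    exact hf

end Groth.Agent.H21Rep
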